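import Cfsg.Agent.Suzuki.Gen
import Cfsg.Agent.Suzuki.LieIso

/-!
# Suzuki groups have no nilpotent minimal cover
-/

set_option autoImplicit false

namespace Cfsg.Agent.Suz

open Matrix MulAction

/-- a cover by proper subgroups -/
def IsCover {G : Type*} [Group G] (𝓐 : Finset (Subgroup G)) : Prop :=
  (∀ A ∈ 𝓐, A ≠ ⊤) ∧ (∀ g : G, ∃ A ∈ 𝓐, g ∈ A)

/-- existence of a nilpotent minimal cover -/
def HasNilMinCover (G : Type*) [Group G] : Prop :=
  ∃ 𝓐 : Finset (Subgroup G), IsCover 𝓐 ∧ (∀ 𝓑 : Finset (Subgroup G), IsCover 𝓑 → 𝓐.card ≤ 𝓑.card) ∧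
    (∀ A ∈ 𝓐, Group.IsNilpotent ↥A)

theorem IsCover.map {G G' : Type*} [Group G] [Group G'] (e : G ≃* G') {𝓐 : Finset (Subgroup G)}
    (h : IsCover 𝓐) : IsCover (𝓐.map e.mapSubgroup.toEquiv.toEmbedding) := by
  constructor
  · intro A hA
    rw [Finset.mem_map] at hA
    obtain ⟨B, hB, rfl⟩ := hA
    intro h1
    apply h.1 B hB
    change e.mapSubgroup B = ⊤ at h1
    exact (map_eq_top_iff e.mapSubgroup).1 h1
  · intro g
    obtain ⟨A, hA, hg⟩ := h.2 (e.symm g)
    refine ⟨e.mapSubgroup A, ?_, ?_⟩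
    · rw [Finset.mem_map]; exact ⟨A, hA, rfl⟩
    · exact ⟨e.symm g, hg, e.apply_symm_apply g⟩

theorem HasNilMinCover.map {G G' : Type*} [Group G] [Group G'] (e : G ≃* G')
    (h : HasNilMinCover G) : HasNilMinCover G' := by
  obtain ⟨𝓐, h1, h2, h3⟩ := h
  refine ⟨𝓐.map e.mapSubgroup.toEquiv.toEmbedding, h1.map e, ?_, ?_⟩
  · intro 𝓑 h𝓑
    have := h2 _ (h𝓑.map e.symm)
    rw [Finset.card_map] at this ⊢
    exact this
  · intro A hA
    rw [Finset.mem_map] at hA
    obtain ⟨B, hB, rfl⟩ := hA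
    have := h3 B hB
    exact Group.nilpotent_of_mulEquiv (e.subgroupMap B)

variable {F : Type*} [Field F] [Fintype F] [CharP F 2] {m : ℕ}

section

variable (hm : 1 ≤ m) (hF : Fintype.card F = 2 ^ (2 * m + 1))

include hm hF

theorem no_nilpotent_minimal_cover : ¬ HasNilMinCover (Cfsg.Sz F m) := by
  classical
  rintro ⟨𝓐, hcov, hmin, hnil⟩
  have : Fintype (Subgroup (Cfsg.Sz F m)) := Fintype.ofFinite _
  let 𝓒 : Finset (Subgroup (Cfsg.Sz F m)) := Finset.univ.filter (IsComp hF)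
  have hmem : ∀ K, K ∈ 𝓒 ↔ IsComp hF K := fun K => by simp [𝓒]
  -- lower bound
  have hlow : 𝓒.card ≤ 𝓐.card := by
    have hex : ∀ A : Subgroup (Cfsg.Sz F m), A ∈ 𝓐 → A ≠ ⊥ → ∃ K, IsComp hF K ∧ A ≤ K := by
      intro A hA hne
      have := hnil A hA
      exact exists_comp_of_nilpotent hm hF A hne
    let f : Subgroup (Cfsg.Sz F m) → Subgroup (Cfsg.Sz F m) := fun A =>
      if h : A ∈ 𝓐 ∧ A ≠ ⊥ then (hex A h.1 h.2).choose else ⊥
    apply Finset.card_le_card_of_surjOn f
    intro K hK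
    have hK' := (hmem K).1 hK
    obtain ⟨x, hx, hx1⟩ := IsComp.exists_ne hm hF hK'
    obtain ⟨A, hA, hxA⟩ := hcov.2 x
    have hne : A ≠ ⊥ := by
      rintro rfl
      exact hx1 (Subgroup.mem_bot.1 hxA)
    refine ⟨A, hA, ?_⟩
    have hf : f A = (hex A hA hne).choose := by
      simp only [f]
      rw [dif_pos ⟨hA, hne⟩]
    rw [hf]
    obtain ⟨h1, h2⟩ := (hex A hA hne).choose_spec
    exact IsComp.unique hm hF h1 hK' hx1 (h2 hxA) hx
  -- a smaller cover
  have hHH : HH hF ∈ 𝓒 := (hmem _).2 (Or.inr (Or.inl ⟨1, (cj_one _).symm⟩))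
  let g : Subgroup (Cfsg.Sz F m) → Subgroup (Cfsg.Sz F m) := fun K =>
    if ∃ P : Sylow 2 (Cfsg.Sz F m), K = P then Subgroup.normalizer (K : Set (Cfsg.Sz F m)) else K
  let 𝓑 : Finset (Subgroup (Cfsg.Sz F m)) :=
    (𝓒.filter fun K => ¬ ∃ k, K = cj k (HH hF)).image g
  have h𝓑lt : 𝓑.card < 𝓒.card := by
    refine lt_of_le_of_lt Finset.card_image_le (Finset.card_lt_card ?_)
    rw [Finset.filter_ssubset]
    exact ⟨HH hF, hHH, fun h => h ⟨1, (cj_one _).symm⟩⟩
  have h𝓑 : IsCover 𝓑 := by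
    constructor
    · intro B hB
      rw [Finset.mem_image] at hB
      obtain ⟨K, hK, rfl⟩ := hB
      rw [Finset.mem_filter, hmem] at hK
      by_cases hP : ∃ P : Sylow 2 (Cfsg.Sz F m), K = P
      · simp only [g]
        rw [if_pos hP]
        obtain ⟨P, rfl⟩ := hP
        exact (sylow_normalizer_maximal hF hm P).1.1
      · simp only [g]
        rw [if_neg hP]
        have hKc : IsCyc hF K := by
          rcases hK.1 with h | h
          · exact absurd ((sylow_iff hF hm K).2 h) hP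
          · exact h
        intro htop
        have h1 := IsCyc.odd hm hF hKc
        rw [htop] at h1
        apply h1
        rw [Subgroup.card_top, card_Sz hm hF]
        apply dvd_mul_of_dvd_left
        apply dvd_mul_of_dvd_left
        exact dvd_pow (dvd_pow_self 2 (by omega)) (by norm_num)
    · intro x
      -- the case of the normaliser of T conjugates
      have hst : ∀ k : Cfsg.Sz F m,
          Subgroup.normalizer (cj k (TT hF) : Set (Cfsg.Sz F m)) ∈ 𝓑 := by
        intro k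
        rw [Finset.mem_image]
        refine ⟨cj k (TT hF), ?_, ?_⟩
        · rw [Finset.mem_filter, hmem]
          refine ⟨Or.inl ⟨k, rfl⟩, ?_⟩
          rintro ⟨l, hl⟩
          have h1 : Nat.card (TT hF) = Nat.card (HH hF) := by
            rw [← card_cj k (TT hF), hl, card_cj]
          have h2 : IsCyc hF (HH hF) := Or.inl ⟨1, (cj_one _).symm⟩
          apply IsCyc.odd hm hF h2
          rw [← h1, card_TT]
          exact dvd_pow (dvd_pow_self 2 (by omega)) (by norm_num)
        · simp only [g]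
          rw [if_pos ((sylow_iff hF hm _).2 ⟨k, rfl⟩)]
      by_cases hx : x = 1
      · refine ⟨_, hst 1, ?_⟩
        rw [hx]
        exact Subgroup.one_mem _
      · obtain ⟨K, hK, hxK, -⟩ := exists_comp hm hF hx
        by_cases hKH : ∃ k, K = cj k (HH hF)
        · obtain ⟨k, rfl⟩ := hKH
          refine ⟨_, hst k, ?_⟩
          rw [normalizer_cj, normalizer_TT hF hm]
          exact Subgroup.map_mono (HH_le_stab hF) hxK
        · refine ⟨g K, ?_, ?_⟩
          · rw [Finset.mem_image]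
            exact ⟨K, Finset.mem_filter.2 ⟨(hmem K).2 hK, hKH⟩, rfl⟩
          · simp only [g]
            split
            · exact Subgroup.le_normalizer hxK
            · exact hxK
  have := hmin 𝓑 h𝓑
  omega

end

end Cfsg.Agent.Suz
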