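import Cfsg.Agent.Suzuki.Sol2

/-!
# Solubilisers in the Suzuki groups: conclusion
-/

set_option autoImplicit false

namespace Cfsg.Agent.Suz

open Matrix MulAction

theorem solv_card_congr {G G' : Type*} [Group G] [Group G'] (e : G ≃* G') (x : G) :
    Nat.card {y : G // Group.IsSolvable (Subgroup.closure ({x, y} : Set G))} =
      Nat.card {y : G' // Group.IsSolvable (Subgroup.closure ({e x, y} : Set G'))} := by
  apply Nat.card_congr
  refine Equiv.subtypeEquiv e.toEquiv (fun y => ?_)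
  have h : Subgroup.closure ({e x, e y} : Set G') =
      (Subgroup.closure ({x, y} : Set G)).map e.toMonoidHom := by
    rw [MonoidHom.map_closure, Set.image_pair]; rfl
  have f := (Subgroup.closure ({x, y} : Set G)).equivMapOfInjective e.toMonoidHom e.injective
  change _ ↔ Group.IsSolvable (Subgroup.closure ({e x, e y} : Set G'))
  rw [h]
  constructor
  · intro hs
    exact Group.isSolvable_of_surjective (f := f.toMonoidHom) f.surjective
  · intro hs
    exact Group.isSolvable_of_isSolvable_injective (f := f.toMonoidHom) f.injective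

variable {F : Type*} [Field F] [Fintype F] [CharP F 2] {m : ℕ}

local notation "ϑ" => th F m

section

variable (hm : 1 ≤ m) (hF : Fintype.card F = 2 ^ (2 * m + 1))

include hm hF in
theorem isSolvable_stab : Group.IsSolvable (stabilizer (Cfsg.Sz F m) (oinf F m)) := by
  have h1 : Group.IsNilpotent (TT hF) := (isPGroup_TT hF).isNilpotent
  have h2 : Group.IsSolvable (TT hF) := inferInstance
  apply Group.isSolvable_of_ker_le_range (Subgroup.inclusion (TT_le_stab hF)) (chi hm hF)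
  intro g hg
  have := (chi_eq_one_iff hm hF g).1 hg
  exact ⟨⟨g.1, this⟩, rfl⟩

include hm in
theorem isSolvable_normalizer {K : Subgroup (Cfsg.Sz F m)} (hK : IsCyc hF K) :
    Group.IsSolvable (Subgroup.normalizer (K : Set (Cfsg.Sz F m))) := by
  obtain ⟨e, he, hc⟩ := IsCyc.exists_index hm hF hK
  have hcyc := IsCyc.isCyclic hm hF hK
  have hsK : Group.IsSolvable K := by
    let _ : CommGroup K := IsCyclic.commGroup
    infer_instance
  have hidx : (K.subgroupOf (Subgroup.normalizer (K : Set (Cfsg.Sz F m)))).index = e := by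
    have h2 := Subgroup.card_mul_index (K.subgroupOf (Subgroup.normalizer (K : Set (Cfsg.Sz F m))))
    rw [Nat.card_congr (Subgroup.subgroupOfEquivOfLe (Subgroup.le_normalizer (H := K))).toEquiv, hc,
      mul_comm] at h2
    exact Nat.eq_of_mul_eq_mul_right Nat.card_pos h2
  have hp : IsPGroup 2 ((Subgroup.normalizer (K : Set (Cfsg.Sz F m))) ⧸
      (K.subgroupOf (Subgroup.normalizer (K : Set (Cfsg.Sz F m))))) := by
    rcases he with rfl | rfl
    · exact IsPGroup.of_card (n := 1) hidx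
    · exact IsPGroup.of_card (n := 2) hidx
  have hn := hp.isNilpotent
  apply Group.isSolvable_of_ker_le_range (Subgroup.inclusion (Subgroup.le_normalizer (H := K)))
    (QuotientGroup.mk' (K.subgroupOf (Subgroup.normalizer (K : Set (Cfsg.Sz F m)))))
  intro g hg
  rw [QuotientGroup.ker_mk'] at hg
  exact ⟨⟨g.1, hg⟩, rfl⟩

include hm hF in
theorem not_isSolvable : ¬ Group.IsSolvable (Cfsg.Sz F m) := by
  intro h
  have := isSimple hm hF
  have hcomm := IsSimpleGroup.comm_iff_isSolvable.2 h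
  have h1 := cent_tS hF hm (a := 0) (b := 1) (fun h => one_ne_zero h.2) (hcomm (wS hF) _)
  obtain ⟨x, y, hxy⟩ := h1
  have h2 : wS hF • oinf F m = oinf F m := by rw [hxy, tS_oinf]
  rw [wS_oinf] at h2
  exact oinf_ne_opt _ _ h2.symm

theorem isSolvable_of_le {G : Type*} [Group G] {A B : Subgroup G} (h : A ≤ B)
    (hB : Group.IsSolvable B) : Group.IsSolvable A :=
  Group.isSolvable_of_isSolvable_injective (Subgroup.inclusion_injective h)

include hm in
/-- The solubility criterion when `2m+1` is prime. -/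
theorem solv_iff (hp : (2 * m + 1).Prime) (x y : Cfsg.Sz F m) :
    Group.IsSolvable (Subgroup.closure ({x, y} : Set (Cfsg.Sz F m))) ↔
      (∃ g, x ∈ cj g (stabilizer (Cfsg.Sz F m) (oinf F m)) ∧
        y ∈ cj g (stabilizer (Cfsg.Sz F m) (oinf F m))) ∨
      ∃ K, IsCyc hF K ∧ x ∈ Subgroup.normalizer (K : Set (Cfsg.Sz F m)) ∧
        y ∈ Subgroup.normalizer (K : Set (Cfsg.Sz F m)) := by
  have hle : ∀ M : Subgroup (Cfsg.Sz F m), Subgroup.closure ({x, y} : Set (Cfsg.Sz F m)) ≤ M ↔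
      x ∈ M ∧ y ∈ M := by
    intro M
    rw [Subgroup.closure_le]
    constructor
    · intro h
      exact ⟨h (Set.mem_insert _ _), h (Set.mem_insert_of_mem _ rfl)⟩
    · rintro ⟨h1, h2⟩ z (rfl | rfl)
      · exact h1
      · exact h2
  constructor
  · intro hs
    have hne : Subgroup.closure ({x, y} : Set (Cfsg.Sz F m)) ≠ ⊤ := by
      intro h
      rw [h] at hs
      apply not_isSolvable hm hF
      have e : (⊤ : Subgroup (Cfsg.Sz F m)) ≃* Cfsg.Sz F m := Subgroup.topEquiv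
      exact Group.isSolvable_of_surjective (f := e.toMonoidHom) e.surjective
    rcases alt hm hF hne with ⟨g, hg⟩ | ⟨K, hK, hMK⟩ | ⟨K, i1, i2, k, h1, h2, h3, h4, -⟩
    · exact Or.inl ⟨g, (hle _).1 hg⟩
    · exact Or.inr ⟨K, hK, (hle _).1 hMK⟩
    · exfalso
      rcases (Nat.dvd_prime hp).1 h4 with h | h <;> omega
  · rintro (⟨g, hg⟩ | ⟨K, hK, hg⟩)
    · have h1 := isSolvable_stab (F := F) hm hF
      have h2 : Group.IsSolvable (cj g (stabilizer (Cfsg.Sz F m) (oinf F m))) :=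
        Group.isSolvable_of_surjective
          (f := ((stabilizer (Cfsg.Sz F m) (oinf F m)).equivMapOfInjective _
            (MulAut.conj g).injective).toMonoidHom)
          (MulEquiv.surjective _)
      exact isSolvable_of_le ((hle _).2 hg) h2
    · exact isSolvable_of_le ((hle _).2 hg) (isSolvable_normalizer hm hF hK)

/-! ### Elements of odd order -/

omit [Field F] [Fintype F] [CharP F 2] in
theorem arith_common {q s : ℕ} (hq : 4 ≤ q) (h2 : q % 2 = 0) (hs2 : s % 2 = 0)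
    (hs : s * s = 2 * q) (hsq : s < q)
    {a b : ℕ} (ha : a = q - 1 ∨ a = q + s + 1 ∨ a = q - s + 1)
    (hb : b = q - 1 ∨ b = q + s + 1 ∨ b = q - s + 1) {p : ℕ} (hpp : p.Prime) (hpa : p ∣ a)
    (hpb : p ∣ b) : a = b := by
  obtain ⟨t, rfl⟩ : ∃ t, q = s + t := ⟨q - s, by omega⟩
  have hs4 : 4 ≤ s * s := by omega
  have hs' : 2 ≤ s := by
    by_contra h
    push Not at h
    interval_cases s <;> omega
  -- pairwise coprime
  have hp : ∀ p : ℕ, p.Prime → p ∣ s + t + s + 1 → p ∣ s + t - s + 1 → False := by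
    intro p hp h1 h3
    rw [Nat.add_sub_cancel_left] at h3
    have h4 : p ∣ 2 * s := by
      have h5 := Nat.dvd_sub h1 h3
      have h6 : s + t + s + 1 - (t + 1) = 2 * s := by omega
      rwa [h6] at h5
    have hp2 : p ≠ 2 := by
      rintro rfl
      omega
    have h5 : p ∣ s := (Nat.Coprime.dvd_mul_left
      ((Nat.coprime_primes hp Nat.prime_two).2 hp2)).1 h4
    have h6 : p ∣ 2 * (s + t) := by rw [← hs]; exact dvd_mul_of_dvd_left h5 s
    have h7 : p ∣ s + t := (Nat.Coprime.dvd_mul_left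
      ((Nat.coprime_primes hp Nat.prime_two).2 hp2)).1 h6
    have h8 : p ∣ t := (Nat.dvd_add_right h5).1 h7
    have h9 : p ∣ 1 := (Nat.dvd_add_right h8).1 h3
    exact hp.one_lt.ne' (Nat.dvd_one.1 h9)
  have key : ((s + t : ℕ) + s + 1 : ℕ) * (s + t - s + 1) = (s + t) * (s + t) + 1 := by
    rw [Nat.add_sub_cancel_left]
    nlinarith
  have hp1 : ∀ p : ℕ, p.Prime → p ∣ s + t - 1 → p ∣ (s + t) * (s + t) + 1 → False := by
    intro p hp h1 h3
    have h4 : p ∣ (s + t - 1) * (s + t + 1) := dvd_mul_of_dvd_left h1 _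
    have h5 : (s + t) * (s + t) + 1 = (s + t - 1) * (s + t + 1) + 2 := by
      obtain ⟨r, hr⟩ : ∃ r, s + t = r + 1 := ⟨s + t - 1, by omega⟩
      rw [hr, Nat.add_sub_cancel]
      ring
    rw [h5] at h3
    have h6 := (Nat.dvd_add_right h4).1 h3
    have h7 := (Nat.prime_dvd_prime_iff_eq hp Nat.prime_two).1 h6
    subst h7
    omega
  by_contra hne
  rcases ha with ha | ha | ha <;> rcases hb with hb | hb | hb
  · exact hne (ha.trans hb.symm)
  · exact hp1 p hpp (ha ▸ hpa) (by rw [← key]; exact dvd_mul_of_dvd_left (hb ▸ hpb) _)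
  · exact hp1 p hpp (ha ▸ hpa) (by rw [← key]; exact dvd_mul_of_dvd_right (hb ▸ hpb) _)
  · exact hp1 p hpp (hb ▸ hpb) (by rw [← key]; exact dvd_mul_of_dvd_left (ha ▸ hpa) _)
  · exact hne (ha.trans hb.symm)
  · exact hp p hpp (ha ▸ hpa) (hb ▸ hpb)
  · exact hp1 p hpp (hb ▸ hpb) (by rw [← key]; exact dvd_mul_of_dvd_right (ha ▸ hpa) _)
  · exact hp p hpp (hb ▸ hpb) (ha ▸ hpa)
  · exact hne (ha.trans hb.symm)

include hm hF in
/-- elements of order dividing the order of a cyclic component -/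
theorem exists_cyc_of_order {x : Cfsg.Sz F m} (hx1 : x ≠ 1) {c : ℕ}
    (hc : c = 2 ^ (2 * m + 1) - 1 ∨ c = 2 ^ (2 * m + 1) + 2 ^ (m + 1) + 1 ∨
      c = 2 ^ (2 * m + 1) - 2 ^ (m + 1) + 1) (hxc : orderOf x ∣ c) :
    ∃ K, IsCyc hF K ∧ x ∈ K ∧ Nat.card K = c := by
  obtain ⟨h4, h2, hs2, hss, hle⟩ := arith_facts hm
  obtain ⟨K, hK, hxK, -⟩ := exists_comp hm hF hx1
  have hodd : ¬ 2 ∣ orderOf x := by
    intro h
    have := h.trans hxc
    rcases hc with rfl | rfl | rfl <;> omega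
  rcases hK with ⟨k, rfl⟩ | hK
  · exfalso
    have h1 : IsPGroup 2 (cj k (TT hF)) := (isPGroup_TT hF).map _
    obtain ⟨n, hn⟩ := IsPGroup.iff_orderOf.1 h1 ⟨x, hxK⟩
    rw [Subgroup.orderOf_mk] at hn
    rcases n with _ | n
    · rw [pow_zero] at hn
      exact hx1 (orderOf_eq_one_iff.1 hn)
    · exact hodd (by rw [hn]; exact dvd_pow_self 2 (Nat.succ_ne_zero n))
  · refine ⟨K, hK, hxK, ?_⟩
    have hne : orderOf x ≠ 1 := fun h => hx1 (orderOf_eq_one_iff.1 h)
    obtain ⟨p, hp, hpx⟩ := Nat.exists_prime_and_dvd hne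
    apply arith_common h4 h2 hs2 hss hle (IsCyc.card_cases hm hF hK) hc hp _ (hpx.trans hxc)
    rw [← Subgroup.orderOf_mk x hxK] at hpx
    exact hpx.trans (orderOf_dvd_natCard _)

include hm hF in
theorem sol_torus (hp : (2 * m + 1).Prime) {K : Subgroup (Cfsg.Sz F m)} (hK : IsTorus K)
    {x : Cfsg.Sz F m} (hxK : x ∈ K) (hx1 : x ≠ 1) :
    Nat.card {y : Cfsg.Sz F m // Group.IsSolvable
      (Subgroup.closure ({x, y} : Set (Cfsg.Sz F m)))} = 4 * Nat.card K := by
  rw [← (torus_card hm hF hK).2]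
  apply Nat.card_congr
  apply Equiv.subtypeEquivRight
  intro y
  rw [solv_iff hm hF hp]
  constructor
  · rintro (⟨g, hxg, -⟩ | ⟨L, hL, hxL, hyL⟩)
    · exfalso
      have h1 := hK.fpf hm hF hxK hx1
      have h2 : (g⁻¹ * x * g) • oinf F m = oinf F m := mem_cj.1 hxg
      apply h1 (g • oinf F m)
      rw [mul_smul, mul_smul, inv_smul_eq_iff] at h2
      exact h2
    · have h1 := IsCyc.mem_of_odd hm hF hL hxL
        (IsCyc.not_two_dvd_orderOf hm hF (K := K) (Or.inr hK) hxK)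
      have h2 : L = K := (IsCyc.selfCent hm hF hL).eq_of_mem (hK.selfCent hm hF) hx1 h1 hxK
      rw [h2] at hyL
      exact hyL
  · intro hy
    exact Or.inr ⟨K, Or.inr hK, Subgroup.le_normalizer hxK, hy⟩

include hm hF in
theorem card_stab : Nat.card (stabilizer (Cfsg.Sz F m) (oinf F m)) =
    (2 ^ (2 * m + 1)) ^ 2 * (2 ^ (2 * m + 1) - 1) := by
  have := two_transitive hF
  have htr : MulAction.IsPretransitive (Cfsg.Sz F m) (Cfsg.suzukiOvoid F m) :=
    MulAction.isPretransitive_of_is_two_pretransitive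
  have h1 := MulAction.index_stabilizer_of_transitive (Cfsg.Sz F m) (oinf F m)
  have h2 := Subgroup.card_mul_index (MulAction.stabilizer (Cfsg.Sz F m) (oinf F m))
  rw [h1, card_ovoid, hF, card_Sz hm hF] at h2
  have h3 : 0 < (2 ^ (2 * m + 1)) ^ 2 + 1 := by positivity
  apply Nat.eq_of_mul_eq_mul_right h3
  rw [h2]; ring

include hm in
theorem sol_HH (hp : (2 * m + 1).Prime) {μ : Fˣ} (hμ : μ ≠ 1) :
    Nat.card {y : Cfsg.Sz F m // Group.IsSolvable
      (Subgroup.closure ({hS hF μ, y} : Set (Cfsg.Sz F m)))} =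
      2 * (2 ^ (2 * m + 1)) ^ 2 * (2 ^ (2 * m + 1) - 1) := by
  set A := stabilizer (Cfsg.Sz F m) (oinf F m) with hA
  set B := stabilizer (Cfsg.Sz F m) (opt m (0 : F) 0) with hB
  set N := Subgroup.normalizer (HH hF : Set (Cfsg.Sz F m)) with hN
  have hHc : IsCyc hF (HH hF) := Or.inl ⟨1, (cj_one _).symm⟩
  have hx1 : hS hF μ ≠ 1 := fun h => hμ ((hS_eq_one_iff hF).1 h)
  have hcjg : ∀ (g x : Cfsg.Sz F m), x ∈ cj g A ↔ x • g • oinf F m = g • oinf F m := by
    intro g x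
    rw [mem_cj]
    change (g⁻¹ * x * g) • oinf F m = oinf F m ↔ _
    rw [mul_smul, mul_smul, inv_smul_eq_iff]
  have hset : {y : Cfsg.Sz F m | Group.IsSolvable
      (Subgroup.closure ({hS hF μ, y} : Set (Cfsg.Sz F m)))} =
      ((A : Set (Cfsg.Sz F m)) ∪ B) ∪ N := by
    ext y
    change Group.IsSolvable _ ↔ _
    rw [solv_iff hm hF hp]
    constructor
    · rintro (⟨g, hxg, hyg⟩ | ⟨L, hL, hxL, hyL⟩)
      · rw [hcjg] at hxg hyg
        left
        rcases fixed_hS hm hF hμ hxg with h | h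
        · left
          rw [h] at hyg
          exact hyg
        · right
          rw [h] at hyg
          exact hyg
      · right
        have h1 := IsCyc.mem_of_odd hm hF hL hxL
          (IsCyc.not_two_dvd_orderOf hm hF hHc (hS_mem_HH hF μ))
        have h2 : L = HH hF := (IsCyc.selfCent hm hF hL).eq_of_mem (selfCent_HH hF hm) hx1 h1
          (hS_mem_HH hF μ)
        rw [h2] at hyL
        exact hyL
    · rintro ((h | h) | h)
      · left
        refine ⟨1, ?_, ?_⟩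
        · rw [cj_one]; exact hS_oinf hF μ
        · rw [cj_one]; exact h
      · left
        refine ⟨wS hF, ?_, ?_⟩
        · rw [hcjg, wS_oinf, hS_opt, mul_zero, mul_zero]
        · rw [hcjg, wS_oinf]; exact h
      · right
        exact ⟨HH hF, hHc, Subgroup.le_normalizer (hS_mem_HH hF μ), h⟩
  have hAc : (A : Set (Cfsg.Sz F m)).ncard = (2 ^ (2 * m + 1)) ^ 2 * (2 ^ (2 * m + 1) - 1) :=
    card_stab hm hF
  have hBc : (B : Set (Cfsg.Sz F m)).ncard = (2 ^ (2 * m + 1)) ^ 2 * (2 ^ (2 * m + 1) - 1) := by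
    have : B = cj (wS hF) A := by
      ext x
      rw [hcjg, wS_oinf]
      exact Iff.rfl
    rw [← card_stab (F := F) hm hF, ← card_cj (wS hF), ← hA, ← this]
    rfl
  have hNc : (N : Set (Cfsg.Sz F m)).ncard = 2 * (2 ^ (2 * m + 1) - 1) :=
    card_normalizer_HH hF hm
  have hHc' : (HH hF : Set (Cfsg.Sz F m)).ncard = 2 ^ (2 * m + 1) - 1 := card_HH hF
  have h1 : (A : Set (Cfsg.Sz F m)) ∩ B = HH hF := by
    ext x
    constructor
    · rintro ⟨h1, h2⟩
      obtain ⟨ν, hν⟩ := fix_two hF hm h1 h2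
      rw [hν]; exact hS_mem_HH hF ν
    · rintro ⟨ν, rfl⟩
      refine ⟨hS_oinf hF ν, ?_⟩
      change hS hF ν • opt m (0 : F) 0 = opt m 0 0
      rw [hS_opt, mul_zero, mul_zero]
  have h2 : ((A : Set (Cfsg.Sz F m)) ∪ B) ∩ N = HH hF := by
    ext x
    constructor
    · rintro ⟨h3, h4⟩
      rcases normalizer_HH_cases hF hm h4 with ⟨ν, rfl⟩ | ⟨ν, rfl⟩
      · exact hS_mem_HH hF ν
      · exfalso
        rcases h3 with h3 | h3
        · have h5 : (hS hF ν * wS hF) • oinf F m = oinf F m := h3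
          rw [mul_smul, wS_oinf, hS_opt, mul_zero, mul_zero] at h5
          exact oinf_ne_opt _ _ h5.symm
        · have h5 : (hS hF ν * wS hF) • opt m (0 : F) 0 = opt m 0 0 := h3
          rw [mul_smul, ← wS_oinf hF, ← mul_smul (wS hF), wS_mul_wS, one_smul, hS_oinf,
            wS_oinf] at h5
          exact oinf_ne_opt _ _ h5
    · intro hx
      refine ⟨Or.inl ?_, Subgroup.le_normalizer hx⟩
      have : x ∈ (A : Set (Cfsg.Sz F m)) ∩ B := by rw [h1]; exact hx
      exact this.1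
  have e1 := Set.ncard_union_add_ncard_inter (A : Set (Cfsg.Sz F m)) B (Set.toFinite _)
    (Set.toFinite _)
  have e2 := Set.ncard_union_add_ncard_inter ((A : Set (Cfsg.Sz F m)) ∪ B) N (Set.toFinite _)
    (Set.toFinite _)
  rw [h1, hAc, hBc, hHc'] at e1
  rw [h2, hNc, hHc'] at e2
  have e3 : Nat.card {y : Cfsg.Sz F m // Group.IsSolvable
      (Subgroup.closure ({hS hF μ, y} : Set (Cfsg.Sz F m)))} =
      (((A : Set (Cfsg.Sz F m)) ∪ B) ∪ N).ncard := by
    rw [← hset]; rfl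
  rw [e3, mul_assoc]
  omega

/-! ### 2-elements -/

include hm in
theorem ncard_SolSet_two {K : Subgroup (Cfsg.Sz F m)} (hK : IsCyc hF K) {b : F} (hb : b ≠ 0) :
    (SolSet K (tS hF 0 b)).ncard = (2 ^ (2 * m + 1)) ^ 2 * (Nat.card K - 1) := by
  obtain ⟨e, he, hc⟩ := IsCyc.exists_index hm hF hK
  have hx1 : tS hF 0 b ≠ 1 := fun h => hb ((tS_eq_one_iff hF).1 h).2
  have h1 := card_SolSet_aux hm hF hK he hc (tS_mem_TT hF 0 b) hx1
  have h2 := card_transporter (tS hF 0 b)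
    (Subgroup.normalizer (K : Set (Cfsg.Sz F m)) : Set (Cfsg.Sz F m))
  have h3 : ({z | z ∈ (Subgroup.normalizer (K : Set (Cfsg.Sz F m)) : Set (Cfsg.Sz F m)) ∧
      ∃ g, g⁻¹ * tS hF 0 b * g = z} : Set (Cfsg.Sz F m)) =
      {t | t ∈ Subgroup.normalizer (K : Set (Cfsg.Sz F m)) ∧ t ≠ 1 ∧ t * t = 1} := by
    ext z
    constructor
    · rintro ⟨hz, g, rfl⟩
      refine ⟨hz, ?_, ?_⟩
      · have := SC.conj_ne_one (g := g⁻¹) hx1
        rwa [inv_inv] at this
      · calc g⁻¹ * tS hF 0 b * g * (g⁻¹ * tS hF 0 b * g) =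
            g⁻¹ * (tS hF 0 b * tS hF 0 b) * g := by group
          _ = 1 := by rw [tS_sq, mul_zero, tS_zero]; group
    · rintro ⟨hz, hz1, hzz⟩
      exact ⟨hz, invol_conj hm hF hb hz1 hzz⟩
  rw [h3, IsCyc.ncard_invol hm hF hK, card_centralizer_two hm hF hb] at h2
  have h4 : ({g | g⁻¹ * tS hF 0 b * g ∈ Subgroup.normalizer (K : Set (Cfsg.Sz F m))} :
      Set (Cfsg.Sz F m)).ncard = (2 ^ (2 * m + 1)) ^ 2 * Nat.card K := h2
  rw [h4] at h1
  have hk := IsCyc.one_lt hm hF hK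
  have he0 : 0 < e := by rcases he with rfl | rfl <;> norm_num
  apply Nat.eq_of_mul_eq_mul_right (Nat.mul_pos he0 (by omega : 0 < Nat.card K))
  rw [h1]
  have : e * Nat.card K - e = e * (Nat.card K - 1) := by rw [Nat.mul_sub, mul_one]
  rw [this]
  ring

include hm in
theorem four_conj {a b : F} (ha : a ≠ 0) {z : Cfsg.Sz F m} (hz : z * z ≠ 1)
    (hzz : z * z * (z * z) = 1) :
    (∃ g, g⁻¹ * tS hF a b * g = z) ∨ (∃ g, g⁻¹ * tS hF a b * g = z⁻¹) := by
  have hz1 : z ≠ 1 := by rintro rfl; exact hz (by group)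
  obtain ⟨K, hK, hzK, -⟩ := exists_comp hm hF hz1
  rcases hK with ⟨k, rfl⟩ | hK
  · have h1 := mem_cj.1 hzK
    obtain ⟨c, d, hcd⟩ := (mem_TT hF).1 h1
    have hc : c ≠ 0 := by
      rintro rfl
      apply hz
      calc z * z = k * ((k⁻¹ * z * k) * (k⁻¹ * z * k)) * k⁻¹ := by group
        _ = 1 := by rw [hcd, tS_sq, mul_zero, tS_zero]; group
    rcases four_conj_aux hm hF (b := b) (d := d) ha hc with ⟨g, hg⟩ | ⟨g, hg⟩
    · left
      refine ⟨g * k⁻¹, ?_⟩
      calc (g * k⁻¹)⁻¹ * tS hF a b * (g * k⁻¹) = k * (g⁻¹ * tS hF a b * g) * k⁻¹ := by group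
        _ = z := by rw [hg, ← hcd]; group
    · right
      refine ⟨g * k⁻¹, ?_⟩
      calc (g * k⁻¹)⁻¹ * tS hF a b * (g * k⁻¹) = k * (g⁻¹ * tS hF a b * g) * k⁻¹ := by group
        _ = z⁻¹ := by rw [hg, ← hcd]; group
  · exact absurd (K.mul_mem hzK hzK) (IsCyc.invol_notMem hm hF hK hz hzz)

include hm in
/-- half of the elements of order four lie in each class -/
theorem ncard_class_four {a b : F} (ha : a ≠ 0) (N : Subgroup (Cfsg.Sz F m)) :
    2 * ({z | z ∈ (N : Set (Cfsg.Sz F m)) ∧ ∃ g, g⁻¹ * tS hF a b * g = z} :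
      Set (Cfsg.Sz F m)).ncard =
    ({t | t ∈ N ∧ t * t ≠ 1 ∧ t * t * (t * t) = 1} : Set (Cfsg.Sz F m)).ncard := by
  set Z : Set (Cfsg.Sz F m) := {z | z ∈ (N : Set (Cfsg.Sz F m)) ∧ ∃ g, g⁻¹ * tS hF a b * g = z}
    with hZ
  have hfour : ∀ z ∈ Z, z * z ≠ 1 ∧ z * z * (z * z) = 1 := by
    rintro z ⟨-, g, rfl⟩
    have e1 : g⁻¹ * tS hF a b * g * (g⁻¹ * tS hF a b * g) = g⁻¹ * (tS hF a b * tS hF a b) * g := by
      group
    constructor
    · rw [e1, tS_sq]
      have h1 : tS hF 0 (ϑ a * a) ≠ 1 := fun h =>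
        mul_ne_zero ((map_ne_zero _).2 ha) ha ((tS_eq_one_iff hF).1 h).2
      have := SC.conj_ne_one (g := g⁻¹) h1
      rwa [inv_inv] at this
    · rw [e1, tS_sq]
      calc g⁻¹ * tS hF 0 (ϑ a * a) * g * (g⁻¹ * tS hF 0 (ϑ a * a) * g) =
          g⁻¹ * (tS hF 0 (ϑ a * a) * tS hF 0 (ϑ a * a)) * g := by group
        _ = 1 := by rw [tS_sq, mul_zero, tS_zero]; group
  have hunion : ({t | t ∈ N ∧ t * t ≠ 1 ∧ t * t * (t * t) = 1} : Set (Cfsg.Sz F m)) =
      Z ∪ (fun z => z⁻¹) '' Z := by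
    ext t
    constructor
    · rintro ⟨htN, ht, ht4⟩
      rcases four_conj hm hF (b := b) ha ht ht4 with h | h
      · exact Or.inl ⟨htN, h⟩
      · exact Or.inr ⟨t⁻¹, ⟨N.inv_mem htN, h⟩, inv_inv t⟩
    · rintro (h | ⟨z, hz, rfl⟩)
      · exact ⟨h.1, hfour t h⟩
      · obtain ⟨h1, h2⟩ := hfour z hz
        refine ⟨N.inv_mem hz.1, ?_, ?_⟩
        · change z⁻¹ * z⁻¹ ≠ 1
          rw [← _root_.mul_inv_rev]
          exact fun h => h1 (inv_eq_one.1 h)
        · change z⁻¹ * z⁻¹ * (z⁻¹ * z⁻¹) = 1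
          rw [← _root_.mul_inv_rev, ← _root_.mul_inv_rev, h2, inv_one]
  have hdis : Disjoint Z ((fun z => z⁻¹) '' Z) := by
    rw [Set.disjoint_left]
    rintro _ ⟨-, g, hg⟩ ⟨z, ⟨-, k, hk⟩, rfl⟩
    have hg : g⁻¹ * tS hF a b * g = z⁻¹ := hg
    apply not_real hF hm ha (c := k * g⁻¹) (b := b)
    calc k * g⁻¹ * tS hF a b * (k * g⁻¹)⁻¹ = k * (g⁻¹ * tS hF a b * g) * k⁻¹ := by group
      _ = k * (k⁻¹ * tS hF a b * k)⁻¹ * k⁻¹ := by rw [hg, hk]
      _ = _ := by group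
  rw [hunion, Set.ncard_union_eq hdis (Set.toFinite _) (Set.toFinite _),
    Set.ncard_image_of_injective _ inv_injective, two_mul]

include hm in
theorem ncard_SolSet_four {K : Subgroup (Cfsg.Sz F m)} (hK : IsCyc hF K) {e : ℕ}
    (he : e = 2 ∨ e = 4)
    (hc : Nat.card (Subgroup.normalizer (K : Set (Cfsg.Sz F m))) = e * Nat.card K)
    {a b : F} (ha : a ≠ 0) :
    2 * (SolSet K (tS hF a b)).ncard = (e - 2) * (2 * 2 ^ (2 * m + 1)) * (Nat.card K - 1) := by
  have hx1 : tS hF a b ≠ 1 := fun h => ha ((tS_eq_one_iff hF).1 h).1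
  have h1 := card_SolSet_aux hm hF hK he hc (tS_mem_TT hF a b) hx1
  have h2 := card_transporter (tS hF a b)
    (Subgroup.normalizer (K : Set (Cfsg.Sz F m)) : Set (Cfsg.Sz F m))
  have h3 := ncard_class_four hm hF (b := b) ha (Subgroup.normalizer (K : Set (Cfsg.Sz F m)))
  have h4 := IsCyc.ncard_four hm hF hK hc
  rw [card_centralizer_four hm hF ha] at h2
  have h5 : ({g | g⁻¹ * tS hF a b * g ∈ Subgroup.normalizer (K : Set (Cfsg.Sz F m))} :
      Set (Cfsg.Sz F m)).ncard = _ := h2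
  rw [h5] at h1
  rw [← h3] at h4
  have hk := IsCyc.one_lt hm hF hK
  have h6 : e * Nat.card K - e = e * (Nat.card K - 1) := by rw [Nat.mul_sub, mul_one]
  rw [h6] at h1
  set Z := ({z | z ∈ (Subgroup.normalizer (K : Set (Cfsg.Sz F m)) : Set (Cfsg.Sz F m)) ∧
    ∃ g, g⁻¹ * tS hF a b * g = z} : Set (Cfsg.Sz F m)).ncard
  have h7 : 2 * Z = (e - 2) * Nat.card K := by
    rw [Nat.sub_mul]; omega
  have he0 : 0 < e := by rcases he with rfl | rfl <;> norm_num
  apply Nat.eq_of_mul_eq_mul_right (Nat.mul_pos he0 (by omega : 0 < Nat.card K))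
  calc 2 * (SolSet K (tS hF a b)).ncard * (e * Nat.card K) =
      2 * ((SolSet K (tS hF a b)).ncard * (e * Nat.card K)) := by ring
    _ = 2 * (2 * 2 ^ (2 * m + 1) * Z * (e * (Nat.card K - 1))) := by rw [h1]
    _ = (2 * Z) * (2 * 2 ^ (2 * m + 1)) * (e * (Nat.card K - 1)) := by ring
    _ = _ := by rw [h7]; ring

theorem disjoint_SolSet (hm : 1 ≤ m) {K L : Subgroup (Cfsg.Sz F m)} (hK : IsCyc hF K)
    (hL : IsCyc hF L) (hne : Nat.card K ≠ Nat.card L) {x : Cfsg.Sz F m} (hxT : x ∈ TT hF)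
    (hx1 : x ≠ 1) : Disjoint (SolSet K x) (SolSet L x) := by
  rw [Set.disjoint_left]
  rintro y ⟨hy, g, hg1, hg2⟩ ⟨-, k, hk1, hk2⟩
  apply hne
  have h : cj g K = cj k L := by
    apply cyc_unique hm hF (isCyc_cj hF hK g) (isCyc_cj hF hL k) hxT hx1 hy <;>
      rw [normalizer_cj] <;> assumption
  rw [← card_cj g K, h, card_cj]

include hm in
theorem sol_two_aux (hp : (2 * m + 1).Prime) {x : Cfsg.Sz F m} (hxT : x ∈ TT hF) (hx1 : x ≠ 1) :
    ∃ U V : Subgroup (Cfsg.Sz F m), IsTorus U ∧ IsTorus V ∧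
    Nat.card U = 2 ^ (2 * m + 1) + 2 ^ (m + 1) + 1 ∧
    Nat.card V = 2 ^ (2 * m + 1) - 2 ^ (m + 1) + 1 ∧
    Nat.card {y : Cfsg.Sz F m // Group.IsSolvable
      (Subgroup.closure ({x, y} : Set (Cfsg.Sz F m)))} =
      (2 ^ (2 * m + 1)) ^ 2 * (2 ^ (2 * m + 1) - 1) + (SolSet (HH hF) x).ncard +
        (SolSet U x).ncard + (SolSet V x).ncard := by
  obtain ⟨U, V, hU, hV, cU, cV, nU, nV, hall⟩ := exists_tori hm hF
  refine ⟨U, V, hU, hV, cU, cV, ?_⟩
  obtain ⟨h4, h2, hs2, hss, hle⟩ := arith_facts hm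
  have hHc : IsCyc hF (HH hF) := Or.inl ⟨1, (cj_one _).symm⟩
  have hUc : IsCyc hF U := Or.inr hU
  have hVc : IsCyc hF V := Or.inr hV
  have hset : {y : Cfsg.Sz F m | Group.IsSolvable
      (Subgroup.closure ({x, y} : Set (Cfsg.Sz F m)))} =
      (((stabilizer (Cfsg.Sz F m) (oinf F m) : Set (Cfsg.Sz F m)) ∪ SolSet (HH hF) x) ∪
        SolSet U x) ∪ SolSet V x := by
    ext y
    change Group.IsSolvable _ ↔ _
    rw [solv_iff hm hF hp]
    constructor
    · intro h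
      by_cases hy : y ∈ stabilizer (Cfsg.Sz F m) (oinf F m)
      · exact Or.inl (Or.inl (Or.inl hy))
      rcases h with ⟨g, hxg, hyg⟩ | ⟨L, hL, hxL, hyL⟩
      · exfalso
        have h1 : g⁻¹ * x * g ∈ stabilizer (Cfsg.Sz F m) (oinf F m) := mem_cj.1 hxg
        have h2 : (g⁻¹ * x * g) • oinf F m = oinf F m := h1
        rw [mul_smul, mul_smul, inv_smul_eq_iff] at h2
        obtain ⟨a, b, rfl⟩ := (mem_TT hF).1 hxT
        have h3 := fixed_tS hF (fun h => hx1 ((tS_eq_one_iff hF).2 h)) h2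
        have h4 : (g⁻¹ * y * g) • oinf F m = oinf F m := mem_cj.1 hyg
        rw [mul_smul, mul_smul, inv_smul_eq_iff, h3] at h4
        exact hy h4
      · have key : ∀ (K : Subgroup (Cfsg.Sz F m)) (g : Cfsg.Sz F m), L = cj g K →
            y ∈ SolSet K x := by
          rintro K g rfl
          rw [normalizer_cj] at hxL hyL
          exact ⟨hy, g, hxL, hyL⟩
        rcases hL with ⟨g, hg⟩ | hL
        · exact Or.inl (Or.inl (Or.inr (key _ g hg)))
        · have h5 := hL.five_le hm hF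
          have : Nontrivial L := Finite.one_lt_card_iff_nontrivial.1 (by omega)
          obtain ⟨z, hz⟩ := _root_.exists_ne (1 : L)
          have hz1 : z.1 ≠ 1 := fun h => hz (Subtype.ext h)
          have hzf : z.1 ∈ fpfSet F m := hL.fpf hm hF z.2 hz1
          have key2 : ∀ W : Subgroup (Cfsg.Sz F m), IsTorus W → z.1 ∈ conjSet W →
              ∃ c, L = cj c W := by
            rintro W hW ⟨-, c, hc⟩
            refine ⟨c⁻¹, ?_⟩
            have : cj c L = W := ((hL.selfCent hm hF).map c).eq_of_mem (hW.selfCent hm hF)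
              (SC.conj_ne_one hz1) ⟨z.1, z.2, rfl⟩ hc
            rw [← this, cj_cj, inv_mul_cancel, cj_one]
          rw [hall] at hzf
          rcases hzf with h | h
          · obtain ⟨c, hc⟩ := key2 U hU h
            exact Or.inl (Or.inr (key _ c hc))
          · obtain ⟨c, hc⟩ := key2 V hV h
            exact Or.inr (key _ c hc)
    · have key : ∀ K, IsCyc hF K → y ∈ SolSet K x → ∃ K, IsCyc hF K ∧
          x ∈ Subgroup.normalizer (K : Set (Cfsg.Sz F m)) ∧
          y ∈ Subgroup.normalizer (K : Set (Cfsg.Sz F m)) := by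
        rintro K hK ⟨-, g, hg1, hg2⟩
        refine ⟨cj g K, isCyc_cj hF hK g, ?_, ?_⟩ <;> rw [normalizer_cj] <;> assumption
      rintro (((h | h) | h) | h)
      · left
        refine ⟨1, ?_, ?_⟩ <;> rw [cj_one]
        · exact TT_le_stab hF hxT
        · exact h
      · exact Or.inr (key _ hHc h)
      · exact Or.inr (key _ hUc h)
      · exact Or.inr (key _ hVc h)
  have e3 : Nat.card {y : Cfsg.Sz F m // Group.IsSolvable
      (Subgroup.closure ({x, y} : Set (Cfsg.Sz F m)))} =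
      ({y : Cfsg.Sz F m | Group.IsSolvable
      (Subgroup.closure ({x, y} : Set (Cfsg.Sz F m)))} : Set (Cfsg.Sz F m)).ncard := rfl
  have hcs : (stabilizer (Cfsg.Sz F m) (oinf F m) : Set (Cfsg.Sz F m)).ncard =
      (2 ^ (2 * m + 1)) ^ 2 * (2 ^ (2 * m + 1) - 1) := card_stab hm hF
  have hds : ∀ K, Disjoint (stabilizer (Cfsg.Sz F m) (oinf F m) : Set (Cfsg.Sz F m))
      (SolSet K x) := by
    intro K
    rw [Set.disjoint_left]
    rintro y hy ⟨hy', -⟩
    exact hy' hy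
  have hpos : 4 ≤ 2 ^ (m + 1) := by
    calc 4 = 2 ^ 2 := by norm_num
      _ ≤ 2 ^ (m + 1) := Nat.pow_le_pow_right (by norm_num) (by omega)
  have hHcard := card_HH hF
  rw [e3, hset, Set.ncard_union_eq _ (Set.toFinite _) (Set.toFinite _),
    Set.ncard_union_eq _ (Set.toFinite _) (Set.toFinite _),
    Set.ncard_union_eq (hds _) (Set.toFinite _) (Set.toFinite _), hcs]
  · rw [Set.disjoint_union_left]
    exact ⟨hds _, disjoint_SolSet hF hm hHc hUc (by rw [cU, hHcard]; omega) hxT hx1⟩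
  · rw [Set.disjoint_union_left, Set.disjoint_union_left]
    exact ⟨⟨hds _, disjoint_SolSet hF hm hHc hVc (by rw [cV, hHcard]; omega) hxT hx1⟩,
      disjoint_SolSet hF hm hUc hVc (by rw [cV, cU]; omega) hxT hx1⟩

/-- Theorem on solubilisers. -/
theorem solubilisers {F : Type*} [Field F] [Fintype F] {m : ℕ} (hm : 1 ≤ m)
    (hp : (2 * m + 1).Prime) (hF : Fintype.card F = 2 ^ (2 * m + 1)) (x : Cfsg.Sz F m) :
    (orderOf x = 2 → Nat.card {y : Cfsg.Sz F m // Group.IsSolvable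
      (Subgroup.closure ({x, y} : Set (Cfsg.Sz F m)))} =
      (2 ^ (2 * m + 1)) ^ 2 * (4 * 2 ^ (2 * m + 1) - 3)) ∧
    (orderOf x = 4 → Nat.card {y : Cfsg.Sz F m // Group.IsSolvable
      (Subgroup.closure ({x, y} : Set (Cfsg.Sz F m)))} =
      (2 ^ (2 * m + 1)) ^ 2 * (2 ^ (2 * m + 1) + 3)) ∧
    (x ≠ 1 → orderOf x ∣ 2 ^ (2 * m + 1) - 1 → Nat.card {y : Cfsg.Sz F m // Group.IsSolvable
      (Subgroup.closure ({x, y} : Set (Cfsg.Sz F m)))} =
      2 * (2 ^ (2 * m + 1)) ^ 2 * (2 ^ (2 * m + 1) - 1)) ∧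
    (x ≠ 1 → orderOf x ∣ 2 ^ (2 * m + 1) + 2 ^ (m + 1) + 1 →
      Nat.card {y : Cfsg.Sz F m // Group.IsSolvable
      (Subgroup.closure ({x, y} : Set (Cfsg.Sz F m)))} =
      4 * (2 ^ (2 * m + 1) + 2 ^ (m + 1) + 1)) ∧
    (x ≠ 1 → orderOf x ∣ 2 ^ (2 * m + 1) - 2 ^ (m + 1) + 1 →
      Nat.card {y : Cfsg.Sz F m // Group.IsSolvable
      (Subgroup.closure ({x, y} : Set (Cfsg.Sz F m)))} =
      4 * (2 ^ (2 * m + 1) - 2 ^ (m + 1) + 1)) := by
  have hch := charP_two hF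
  obtain ⟨h4, h2, hs2, hss, hle⟩ := arith_facts hm
  have hpos : 0 < 2 ^ (m + 1) := by positivity
  have conj_card : ∀ (k x : Cfsg.Sz F m), Nat.card {y : Cfsg.Sz F m // Group.IsSolvable
      (Subgroup.closure ({k * x * k⁻¹, y} : Set (Cfsg.Sz F m)))} =
      Nat.card {y : Cfsg.Sz F m // Group.IsSolvable
      (Subgroup.closure ({x, y} : Set (Cfsg.Sz F m)))} := by
    intro k x
    exact (solv_card_congr (MulAut.conj k) x).symm
  -- 2-elements may be assumed to lie in T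
  have conjT : 2 ∣ orderOf x → ∃ k a b, x = k * tS hF a b * k⁻¹ := by
    intro hx
    have hx1 : x ≠ 1 := by
      rintro rfl
      rw [orderOf_one] at hx
      omega
    obtain ⟨K, hK, hxK, -⟩ := exists_comp hm hF hx1
    rcases hK with ⟨k, rfl⟩ | hK
    · obtain ⟨a, b, hab⟩ := (mem_TT hF).1 (mem_cj.1 hxK)
      exact ⟨k, a, b, by rw [← hab]; group⟩
    · exact absurd hx (IsCyc.not_two_dvd_orderOf hm hF hK hxK)
  have hsq : ∀ (k : Cfsg.Sz F m) (a b : F), (k * tS hF a b * k⁻¹) ^ 2 = 1 ↔ a = 0 := by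
    intro k a b
    have e1 : (k * tS hF a b * k⁻¹) ^ 2 = k * tS hF 0 (th F m a * a) * k⁻¹ := by
      rw [← tS_sq hF a b, pow_two]; group
    rw [e1]
    constructor
    · intro h
      by_contra ha
      have h1 : tS hF 0 (th F m a * a) ≠ 1 := fun h =>
        mul_ne_zero ((map_ne_zero _).2 ha) ha ((tS_eq_one_iff hF).1 h).2
      exact SC.conj_ne_one h1 h
    · rintro rfl
      rw [mul_zero, tS_zero]; group
  refine ⟨?_, ?_, ?_, ?_, ?_⟩
  · intro hx
    obtain ⟨k, a, b, rfl⟩ := conjT (by rw [hx])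
    have ha : a = 0 := by rw [← hsq k a b, ← hx, pow_orderOf_eq_one]
    subst ha
    have hb : b ≠ 0 := by
      rintro rfl
      rw [tS_zero, mul_one, mul_inv_cancel, orderOf_one] at hx
      omega
    rw [conj_card]
    obtain ⟨U, V, hU, hV, cU, cV, h⟩ := sol_two_aux hm hF hp (tS_mem_TT hF 0 b)
      (fun h => hb ((tS_eq_one_iff hF).1 h).2)
    rw [h, ncard_SolSet_two hm hF (Or.inl ⟨1, (cj_one _).symm⟩) hb,
      ncard_SolSet_two hm hF (Or.inr hU) hb, ncard_SolSet_two hm hF (Or.inr hV) hb, cU, cV,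
      card_HH, ← mul_add, ← mul_add, ← mul_add]
    congr 1
    omega
  · intro hx
    obtain ⟨k, a, b, rfl⟩ := conjT (by rw [hx]; norm_num)
    have ha : a ≠ 0 := by
      intro ha
      have h1 := (hsq k a b).2 ha
      have h2 := orderOf_dvd_of_pow_eq_one h1
      rw [hx] at h2
      exact absurd (Nat.le_of_dvd (by norm_num) h2) (by norm_num)
    rw [conj_card]
    obtain ⟨U, V, hU, hV, cU, cV, h⟩ := sol_two_aux hm hF hp (tS_mem_TT hF a b)
      (fun h => ha ((tS_eq_one_iff hF).1 h).1)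
    have e1 := ncard_SolSet_four hm hF (K := HH hF) (Or.inl ⟨1, (cj_one _).symm⟩) (Or.inl rfl)
      (by rw [card_HH, card_normalizer_HH hF hm]) (b := b) ha
    have e2 := ncard_SolSet_four hm hF (Or.inr hU) (Or.inr rfl) (torus_card hm hF hU).2 (b := b) ha
    have e3 := ncard_SolSet_four hm hF (Or.inr hV) (Or.inr rfl) (torus_card hm hF hV).2 (b := b) ha
    rw [h]
    rw [cU] at e2
    rw [cV] at e3
    generalize (SolSet (HH hF) (tS hF a b)).ncard = A₁ at *
    generalize (SolSet U (tS hF a b)).ncard = A₂ at *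
    generalize (SolSet V (tS hF a b)).ncard = A₃ at *
    have h8 : 2 ^ (2 * m + 1) - 2 ^ (m + 1) + 1 - 1 = 2 ^ (2 * m + 1) - 2 ^ (m + 1) := by omega
    have h9 : 2 ^ (2 * m + 1) + 2 ^ (m + 1) + 1 - 1 = 2 ^ (2 * m + 1) + 2 ^ (m + 1) := by omega
    rw [h8] at e3
    rw [h9] at e2
    obtain ⟨t, ht⟩ : ∃ t, 2 ^ (2 * m + 1) = 2 ^ (m + 1) + t := ⟨_, (Nat.add_sub_cancel' hle.le).symm⟩
    have h10 : 2 ^ (2 * m + 1) - 2 ^ (m + 1) = t := by omega
    rw [h10] at e3
    have e1' : 2 * A₁ = 0 := by rw [e1]; simp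
    have e2' : 2 * A₂ = 2 * (2 * 2 ^ (2 * m + 1)) * (2 ^ (2 * m + 1) + 2 ^ (m + 1)) := e2
    have e3' : 2 * A₃ = 2 * (2 * 2 ^ (2 * m + 1)) * t := e3
    have h11 : A₂ + A₃ = 4 * (2 ^ (2 * m + 1)) ^ 2 := by
      have : 2 * (A₂ + A₃) = 2 * (4 * (2 ^ (2 * m + 1)) ^ 2) := by
        calc 2 * (A₂ + A₃) = 2 * A₂ + 2 * A₃ := by ring
          _ = 2 * (2 * 2 ^ (2 * m + 1)) * (2 ^ (2 * m + 1) + 2 ^ (m + 1)) +
              2 * (2 * 2 ^ (2 * m + 1)) * t := by rw [e2', e3']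
          _ = 2 * (2 * 2 ^ (2 * m + 1)) * (2 ^ (2 * m + 1) + (2 ^ (m + 1) + t)) := by ring
          _ = 2 * (2 * 2 ^ (2 * m + 1)) * (2 ^ (2 * m + 1) + 2 ^ (2 * m + 1)) := by rw [← ht]
          _ = _ := by ring
      exact Nat.eq_of_mul_eq_mul_left (by norm_num) this
    have h12 : (2 ^ (2 * m + 1)) ^ 2 * (2 ^ (2 * m + 1) - 1) + 4 * (2 ^ (2 * m + 1)) ^ 2 =
        (2 ^ (2 * m + 1)) ^ 2 * (2 ^ (2 * m + 1) + 3) := by
      rw [mul_comm 4, ← mul_add]
      congr 1
      omega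
    rw [← h12, ← h11]
    omega
  · intro hx1 hx
    obtain ⟨K, hK, hxK, hKc⟩ := exists_cyc_of_order hm hF hx1 (Or.inl rfl) hx
    rcases hK with ⟨g, rfl⟩ | hK
    · obtain ⟨y, ⟨μ, rfl⟩, rfl⟩ := hxK
      have hμ : μ ≠ 1 := by
        rintro rfl
        apply hx1
        change g * hS hF 1 * g⁻¹ = 1
        rw [hS_one]; group
      exact (conj_card g _).trans (sol_HH hm hF hp hμ)
    · exfalso
      have hpos : 4 ≤ 2 ^ (m + 1) := by
        calc 4 = 2 ^ 2 := by norm_num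
          _ ≤ 2 ^ (m + 1) := Nat.pow_le_pow_right (by norm_num) (by omega)
      rcases (torus_card hm hF hK).1 with h | h <;> omega
  · intro hx1 hx
    obtain ⟨K, hK, hxK, hKc⟩ := exists_cyc_of_order hm hF hx1 (Or.inr (Or.inl rfl)) hx
    rcases hK with ⟨g, rfl⟩ | hK
    · exfalso
      rw [card_cj, card_HH] at hKc
      omega
    · rw [sol_torus hm hF hp hK hxK hx1, hKc]
  · intro hx1 hx
    obtain ⟨K, hK, hxK, hKc⟩ := exists_cyc_of_order hm hF hx1 (Or.inr (Or.inr rfl)) hx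
    rcases hK with ⟨g, rfl⟩ | hK
    · exfalso
      have hpos : 4 ≤ 2 ^ (m + 1) := by
        calc 4 = 2 ^ 2 := by norm_num
          _ ≤ 2 ^ (m + 1) := Nat.pow_le_pow_right (by norm_num) (by omega)
      rw [card_cj, card_HH] at hKc
      omega
    · rw [sol_torus hm hF hp hK hxK hx1, hKc]

end

end Cfsg.Agent.Suz
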