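import Cfsg.Agent.Suzuki.Trace
import Cfsg.Agent.Suzuki.Sol3

/-!
# Products of two conjugates in the Suzuki groups
-/

set_option autoImplicit false

namespace Cfsg.Agent.Suz

open Matrix MulAction

variable {F : Type*} [Field F] [Fintype F] [CharP F 2] {m : ℕ}

local notation "ϑ" => th F m

section field

variable (hm : 1 ≤ m) (hF : Fintype.card F = 2 ^ (2 * m + 1))

variable (F m) in
/-- the additive map `x ↦ θ x + x` -/
noncomputable def asMap : F →+ F where
  toFun x := ϑ x + x
  map_zero' := by simp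
  map_add' x y := by rw [map_add]; ring

variable (F m) in
/-- its image -/
noncomputable def II : AddSubgroup F := (asMap F m).range

omit [Fintype F] in
theorem mem_II (x : F) : ϑ x + x ∈ II F m := ⟨x, rfl⟩

include hF in
theorem one_notMem_II : (1 : F) ∉ II F m := by
  rintro ⟨x, hx⟩
  have hx : ϑ x + x = 1 := hx
  have h2 : (2 : F) = 0 := CharTwo.two_eq_zero
  have h7 : x ^ 2 + ϑ x = 1 := by
    have := congrArg ϑ hx
    rw [map_add, th_th hF, map_one] at this
    exact this
  have h8 : x * (x - 1) = 0 := by linear_combination h7 - hx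
  rcases mul_eq_zero.1 h8 with h9 | h9
  · rw [h9] at hx; simp at hx
  · have h10 : x = 1 := by linear_combination h9
    rw [h10, map_one] at hx
    exact one_ne_zero (α := F) (by linear_combination hx)

include hF in
theorem index_II : (II F m).index = 2 := by
  have h2 : (2 : F) = 0 := CharTwo.two_eq_zero
  have hkc : Nat.card (asMap F m).ker = 2 := by
    have h4 : ((asMap F m).ker : Set F) = {0, 1} := by
      ext x
      constructor
      · intro hx
        have hx : ϑ x + x = 0 := hx
        have h6 : ϑ x = x := by linear_combination hx - x * h2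
        have h7 : x * (x - 1) = 0 := by
          have h8 := th_th hF x
          rw [h6, h6] at h8
          linear_combination -h8
        rcases mul_eq_zero.1 h7 with h8 | h8
        · exact Or.inl h8
        · exact Or.inr (sub_eq_zero.1 h8)
      · rintro (rfl | rfl)
        · exact (asMap F m).ker.zero_mem
        · change ϑ 1 + 1 = 0
          rw [map_one]
          linear_combination h2
    have h5 : Nat.card (asMap F m).ker = ((asMap F m).ker : Set F).ncard := rfl
    rw [h5, h4, Set.ncard_pair (zero_ne_one)]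
  have h4 := AddSubgroup.card_mul_index (asMap F m).ker
  rw [AddSubgroup.index_ker] at h4
  have h5 := AddSubgroup.card_mul_index (asMap F m).range
  have h6 : Nat.card (asMap F m).range ≠ 0 := Nat.card_pos.ne'
  rw [hkc, mul_comm, ← h5] at h4
  exact (Nat.eq_of_mul_eq_mul_left (Nat.pos_of_ne_zero h6) h4).symm

open Classical in
/-- the additive character with kernel `II` -/
noncomputable def chi2 (hF : Fintype.card F = 2 ^ (2 * m + 1)) : F →+ ZMod 2 where
  toFun x := if x ∈ II F m then 0 else 1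
  map_zero' := if_pos (II F m).zero_mem
  map_add' x y := by
    have h := AddSubgroup.add_mem_iff_of_index_two (index_II (F := F) (m := m) hF) (a := x) (b := y)
    by_cases hx : x ∈ II F m <;> by_cases hy : y ∈ II F m <;> simp [h, hx, hy]
    rfl

open Classical in
theorem chi2_eq_zero_iff (x : F) : chi2 (m := m) hF x = 0 ↔ x ∈ II F m := by
  change (if x ∈ II F m then (0 : ZMod 2) else 1) = 0 ↔ _
  split_ifs with h
  · simp [h]
  · simp [h]

open Classical in
theorem chi2_one : chi2 (m := m) hF (1 : F) = 1 := by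
  change (if (1 : F) ∈ II F m then (0 : ZMod 2) else 1) = 1
  rw [if_neg (one_notMem_II hF)]

theorem chi2_theta (x : F) : chi2 (m := m) hF (ϑ x) = chi2 (m := m) hF x := by
  have h := (chi2_eq_zero_iff hF (ϑ x + x)).2 (mem_II x)
  rw [map_add] at h
  have h2 := CharTwo.add_eq_zero.1 h
  exact h2

theorem chi2_sq (x : F) : chi2 (m := m) hF (x ^ 2) = chi2 (m := m) hF x := by
  rw [← th_th hF, chi2_theta, chi2_theta]

theorem chi2_cases (e : ZMod 2) : e = 0 ∨ e = 1 := by
  revert e; decide

/-- nondegeneracy -/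
theorem eq_zero_of_chi2 {c : F} (h : ∀ x, chi2 (m := m) hF (c * x) = 0) : c = 0 := by
  by_contra hc
  have := h c⁻¹
  rw [mul_inv_cancel₀ hc, chi2_one] at this
  exact one_ne_zero this

theorem exists_chi2_aux {l : F} (h0 : l ≠ 0) (h1 : l ≠ 1) :
    ∃ x, chi2 (m := m) hF x = 0 ∧ chi2 (m := m) hF (l * x) = 1 := by
  by_contra hcon
  push Not at hcon
  have h2 : (2 : F) = 0 := CharTwo.two_eq_zero
  have hker : ∀ x, chi2 (m := m) hF x = 0 → chi2 (m := m) hF (l * x) = 0 := by
    intro x hx
    rcases chi2_cases (chi2 (m := m) hF (l * x)) with h | h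
    · exact h
    · exact absurd h (hcon x hx)
  have hone : ∀ x, chi2 (m := m) hF x = 1 → chi2 (m := m) hF (l * x) = chi2 (m := m) hF l := by
    intro x hx
    have h3 : chi2 (m := m) hF (x + 1) = 0 := by
      rw [map_add, hx, chi2_one]; rfl
    have h4 := hker _ h3
    rw [mul_add, mul_one, map_add] at h4
    exact CharTwo.add_eq_zero.1 h4
  rcases chi2_cases (chi2 (m := m) hF l) with h | h
  · apply h0
    apply eq_zero_of_chi2 (m := m) hF
    intro x
    rcases chi2_cases (chi2 (m := m) hF x) with hx | hx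
    · exact hker x hx
    · rw [hone x hx, h]
  · apply h1
    have h3 : l + 1 = 0 := by
      apply eq_zero_of_chi2 (m := m) hF
      intro x
      rw [add_mul, one_mul, map_add]
      rcases chi2_cases (chi2 (m := m) hF x) with hx | hx
      · rw [hker x hx, hx]; rfl
      · rw [hone x hx, h, hx]; rfl
    linear_combination h3 - h2

theorem exists_chi2 {l : F} (h0 : l ≠ 0) (h1 : l ≠ 1) (e₀ e₁ : ZMod 2) :
    ∃ x, chi2 (m := m) hF x = e₀ ∧ chi2 (m := m) hF (l * x) = e₁ := by
  obtain ⟨p, hp0, hp1⟩ := exists_chi2_aux (m := m) hF h0 h1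
  obtain ⟨q, hq0, hq1⟩ := exists_chi2_aux (m := m) hF (inv_ne_zero h0) (inv_ne_one.2 h1)
  have hr0 : chi2 (m := m) hF (l⁻¹ * q) = 1 := hq1
  have hr1 : chi2 (m := m) hF (l * (l⁻¹ * q)) = 0 := by rw [mul_inv_cancel_left₀ h0]; exact hq0
  rcases chi2_cases e₀ with rfl | rfl <;> rcases chi2_cases e₁ with rfl | rfl
  · exact ⟨0, by simp, by simp⟩
  · exact ⟨p, hp0, hp1⟩
  · exact ⟨l⁻¹ * q, hr0, hr1⟩
  · refine ⟨p + l⁻¹ * q, ?_, ?_⟩
    · rw [map_add, hp0, hr0, zero_add]
    · rw [mul_add, map_add, hp1, hr1, add_zero]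

include hm hF in
/-- Elements of given nonzero trace of the form `t w`, with `t` of order 4. -/
theorem exists_param {b : F} (hb : b ≠ 0) :
    ∃ c d : F, c ≠ 0 ∧ c ^ 2 * ϑ c * (1 + d + ϑ d) + ϑ c = b := by
  have h2 : (2 : F) = 0 := CharTwo.two_eq_zero
  by_contra hcon
  push Not at hcon
  -- the quadratic form vanishes
  have hQ : ∀ s : F, chi2 (m := m) hF (b * (s ^ 2 * ϑ s)) = chi2 (m := m) hF s := by
    intro s
    by_cases hs : s = 0
    · rw [hs]; simp
    have hts : ϑ s ≠ 0 := (map_ne_zero _).2 hs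
    have h3 : chi2 (m := m) hF (b * (s ^ 2 * ϑ s) + s ^ 2) = 0 := by
      rcases chi2_cases (chi2 (m := m) hF (b * (s ^ 2 * ϑ s) + s ^ 2)) with h | h
      · exact h
      · exfalso
        have h4 : chi2 (m := m) hF (b * (s ^ 2 * ϑ s) + s ^ 2 + 1) = 0 := by
          rw [map_add, h, chi2_one]; rfl
        obtain ⟨d, hd⟩ := (chi2_eq_zero_iff hF _).1 h4
        have hd : ϑ d + d = b * (s ^ 2 * ϑ s) + s ^ 2 + 1 := hd
        apply hcon s⁻¹ d (inv_ne_zero hs)
        have h5 : 1 + d + ϑ d = b * (s ^ 2 * ϑ s) + s ^ 2 := by linear_combination hd + h2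
        rw [h5, map_inv₀]
        field_simp
        linear_combination h2
    rw [map_add, chi2_sq] at h3
    exact CharTwo.add_eq_zero.1 h3
  have hB : ∀ s t : F, chi2 (m := m) hF (b * (s ^ 2 * ϑ t + t ^ 2 * ϑ s)) = 0 := by
    intro s t
    have h3 := hQ (s + t)
    have e1 : b * ((s + t) ^ 2 * ϑ (s + t)) = b * (s ^ 2 * ϑ s) + b * (t ^ 2 * ϑ t) +
        b * (s ^ 2 * ϑ t + t ^ 2 * ϑ s) := by
      rw [map_add]
      linear_combination (b * (s * t * ϑ s + s * t * ϑ t)) * h2
    rw [e1, map_add, map_add, hQ s, hQ t, map_add] at h3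
    have h4 : chi2 (m := m) hF (b * (s ^ 2 * ϑ t + t ^ 2 * ϑ s)) =
        chi2 (m := m) hF s + chi2 (m := m) hF t - (chi2 (m := m) hF s + chi2 (m := m) hF t) :=
      eq_sub_of_add_eq' h3
    rw [h4, sub_self]
  have hC : ∀ s : F, s ≠ 0 → ϑ b * ϑ s = b := by
    intro s hs
    have hts : ϑ s ≠ 0 := (map_ne_zero _).2 hs
    have h3 : ϑ b * ϑ s ^ 2 + b * ϑ s = 0 := by
      apply eq_zero_of_chi2 (m := m) hF
      intro x
      obtain ⟨y, hy⟩ := Finite.injective_iff_surjective.1 (th_injective (F := F) (m := m)) x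
      obtain ⟨u, hu⟩ := (frobeniusEquiv F 2).surjective y
      rw [frobeniusEquiv_apply, frobenius_def] at hu
      have h4 := hB s (ϑ u)
      rw [th_th hF, mul_add, map_add, ← chi2_theta hF (b * (s ^ 2 * u ^ 2)), ← map_add] at h4
      rw [← h4]
      congr 1
      rw [← hy, ← hu]
      simp only [map_mul, map_pow]
      ring
    have h4 : ϑ s * (ϑ b * ϑ s - b) = 0 := by linear_combination h3 - ϑ s * b * h2
    rcases mul_eq_zero.1 h4 with h5 | h5
    · exact absurd h5 hts
    · linear_combination h5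
  obtain ⟨ν, hν⟩ := exists_unit_ne_one hm hF
  apply hν
  apply unit_eq_one_of_theta (m := m)
  have h3 := hC 1 one_ne_zero
  have h4 := hC ν ν.ne_zero
  rw [map_one, mul_one] at h3
  rw [h3] at h4
  exact mul_left_cancel₀ hb (h4.trans (mul_one b).symm)

end field

end Cfsg.Agent.Suz
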