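import Cfsg.Agent.Suzuki.Prod

/-!
# Products of two conjugates in the Suzuki groups: conclusion
-/

set_option autoImplicit false

namespace Cfsg.Agent.Suz

open Matrix MulAction

/-- `g` is a product of two conjugates of `x` -/
def PT {G : Type*} [Group G] (x g : G) : Prop := ∃ u v : G, g = (u * x * u⁻¹) * (v * x * v⁻¹)

theorem PT.conj {G : Type*} [Group G] {x g : G} (h : PT x g) (k : G) : PT x (k * g * k⁻¹) := by
  obtain ⟨u, v, rfl⟩ := h
  exact ⟨k * u, k * v, by group⟩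

theorem PT.of_conj_eq {G : Type*} [Group G] {x g h : G} (k : G) (hk : k * g * k⁻¹ = h)
    (hg : PT x g) : PT x h := hk ▸ hg.conj k

theorem PT.mk' {G : Type*} [Group G] {x y₁ y₂ : G} (h₁ : ∃ u, u * x * u⁻¹ = y₁)
    (h₂ : ∃ u, u * x * u⁻¹ = y₂) : PT x (y₁ * y₂) := by
  obtain ⟨u, rfl⟩ := h₁
  obtain ⟨v, rfl⟩ := h₂
  exact ⟨u, v, rfl⟩

variable {F : Type*} [Field F] [Fintype F] [CharP F 2] {m : ℕ}

local notation "ϑ" => th F m

section

variable (hm : 1 ≤ m) (hF : Fintype.card F = 2 ^ (2 * m + 1))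

theorem scale_one {c : F} (hc : c ≠ 0) (d : F) :
    ∃ k : Cfsg.Sz F m, k * tS hF c (c * ϑ c * d) * k⁻¹ = tS hF 1 d := by
  obtain ⟨u, hu⟩ := Finite.injective_iff_surjective.1 (th_injective (F := F) (m := m)) c⁻¹
  have hu0 : u ≠ 0 := by
    rintro rfl
    rw [map_zero] at hu
    exact inv_ne_zero hc hu.symm
  refine ⟨hS hF (Units.mk0 u hu0), ?_⟩
  rw [hS_mul_tS, mul_inv_cancel_right, Units.val_mk0]
  have h1 : u ^ 2 = (ϑ c)⁻¹ := by rw [← th_th hF u, hu, map_inv₀]
  have htc : ϑ c ≠ 0 := (map_ne_zero _).2 hc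
  rw [h1, hu]
  congr 1
  · exact inv_mul_cancel₀ hc
  · field_simp

theorem conj_of_chi2 {b b' : F} (h : chi2 (m := m) hF b = chi2 (m := m) hF b') :
    ∃ k : Cfsg.Sz F m, k * tS hF 1 b * k⁻¹ = tS hF 1 b' := by
  have h2 : (2 : F) = 0 := CharTwo.two_eq_zero
  have h1 : chi2 (m := m) hF (b' - b) = 0 := by rw [map_sub, h, sub_self]
  obtain ⟨x, hx⟩ := (chi2_eq_zero_iff hF _).1 h1
  have hx : ϑ x + x = b' - b := hx
  refine ⟨tS hF x 0, ?_⟩
  rw [conj_tS, map_one, mul_one, one_mul, hx]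
  congr 1
  ring

include hm in
theorem four_form {z : Cfsg.Sz F m} (hz : z * z ≠ 1) (hzz : z * z * (z * z) = 1) :
    ∃ (k : Cfsg.Sz F m) (b : F), k * tS hF 1 b * k⁻¹ = z := by
  rcases four_conj hm hF (b := 0) one_ne_zero hz hzz with ⟨g, hg⟩ | ⟨g, hg⟩
  · exact ⟨g⁻¹, 0, by rw [inv_inv]; exact hg⟩
  · refine ⟨g⁻¹, 1, ?_⟩
    have h1 : tS hF (1 : F) 1 = (tS hF 1 0)⁻¹ := by rw [tS_inv]; simp
    calc g⁻¹ * tS hF 1 1 * g⁻¹⁻¹ = (g⁻¹ * tS hF 1 0 * g)⁻¹ := by rw [h1]; group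
      _ = z := by rw [hg, inv_inv]

include hm hF in
theorem PT_odd {x g : Cfsg.Sz F m} (hx : tr x ≠ 0) (hg1 : g ≠ 1) : PT x g := by
  have h2 : (2 : F) = 0 := CharTwo.two_eq_zero
  have key : ∀ y : Cfsg.Sz F m, tr y = tr x → ∃ u, u * x * u⁻¹ = y := fun y hy =>
    conj_of_tr hm hF hx hy.symm
  have hsurj := Finite.injective_iff_surjective.1 (th_injective (F := F) (m := m))
  obtain ⟨β, hβ⟩ := hsurj (tr x)
  have hβt : tr (tS hF 0 β * wS hF) = tr x := by rw [tr_tS_wS]; simp [hβ]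
  by_cases hg : tr g = 0
  · obtain ⟨c, d, hc, hcd⟩ := exists_param hm hF hx
    set δ := c * ϑ c * d with hδ
    have hθδ : ϑ δ = c ^ 2 * ϑ c * ϑ d := by rw [hδ, map_mul, map_mul, th_th hF]; ring
    have ht : tr (tS hF c δ * wS hF) = tr x := by
      rw [tr_tS_wS, hθδ, ← hcd, hδ]; ring
    have ht' : tr (wS hF * tS hF c δ) = tr x := by rw [tr_mul_comm, ht]
    by_cases hgg : g * g = 1
    · -- involution
      have h1 : PT x (tS hF 0 (ϑ c * c)) := by
        have := PT.mk' (key _ ht) (key _ ht')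
        have e : tS hF c δ * wS hF * (wS hF * tS hF c δ) = tS hF 0 (ϑ c * c) := by
          calc tS hF c δ * wS hF * (wS hF * tS hF c δ) =
              tS hF c δ * (wS hF * wS hF) * tS hF c δ := by group
            _ = _ := by rw [wS_mul_wS, mul_one, tS_sq]
        rwa [e] at this
      obtain ⟨k, hk⟩ := invol_conj hm hF (mul_ne_zero ((map_ne_zero (ϑ)).2 hc) hc) hg1 hgg
      exact h1.of_conj_eq k⁻¹ (by rw [inv_inv]; exact hk)
    · -- order four
      have hg4 : g * g * (g * g) = 1 := by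
        obtain ⟨K, hK, hgK, -⟩ := exists_comp hm hF hg1
        rcases hK with ⟨k, rfl⟩ | hK
        · exact pow_four_of_mem_cj hF hgK
        · exact absurd hg (tr_ne_zero hm hF hK hgK hg1)
      have hβt' : tr (wS hF * tS hF 0 β) = tr x := by rw [tr_mul_comm, hβt]
      have e1 : tS hF c δ * wS hF * (wS hF * tS hF 0 β) = tS hF c (δ + β) := by
        calc tS hF c δ * wS hF * (wS hF * tS hF 0 β) =
            tS hF c δ * (wS hF * wS hF) * tS hF 0 β := by group
          _ = _ := by rw [wS_mul_wS, mul_one, tS_mul]; simp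
      have e2 : (tS hF c (δ + β))⁻¹ = (tS hF 0 β * wS hF) * (wS hF * tS hF c (δ + ϑ c * c)) := by
        calc (tS hF c (δ + β))⁻¹ = (tS hF c δ * tS hF 0 β)⁻¹ := by rw [tS_mul]; simp
          _ = tS hF 0 β * tS hF c (δ + ϑ c * c) := by
            rw [_root_.mul_inv_rev, tS_inv, tS_inv]; simp
          _ = tS hF 0 β * (wS hF * wS hF) * tS hF c (δ + ϑ c * c) := by
            rw [wS_mul_wS, mul_one]
          _ = _ := by group
      rcases four_conj hm hF (b := δ + β) hc hgg hg4 with ⟨k, hk⟩ | ⟨k, hk⟩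
      · have h1 := PT.mk' (key _ ht) (key _ hβt')
        rw [e1] at h1
        exact h1.of_conj_eq k⁻¹ (by rw [inv_inv]; exact hk)
      · have ht3 : tr (wS hF * tS hF c (δ + ϑ c * c)) = tr x := by
          rw [tr_mul_comm, tr_tS_wS, map_add, hθδ, map_mul, th_th hF, ← hcd, hδ]
          linear_combination c ^ 2 * ϑ c * h2
        have h1 := PT.mk' (key _ hβt) (key _ ht3)
        rw [← e2] at h1
        refine h1.of_conj_eq k⁻¹ ?_
        rw [inv_inv]
        calc k⁻¹ * (tS hF c (δ + β))⁻¹ * k = (k⁻¹ * tS hF c (δ + β) * k)⁻¹ := by group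
          _ = g := by rw [hk, inv_inv]
  · -- odd order
    obtain ⟨e, he⟩ := (frobeniusEquiv F 2).surjective (tr g)
    rw [frobeniusEquiv_apply, frobenius_def] at he
    obtain ⟨c, hc⟩ := hsurj (e - tr x)
    have hzinv : (tS hF 0 c)⁻¹ = tS hF 0 c := by rw [tS_inv]; simp
    have h1 := PT.mk' (key _ hβt) (key (tS hF 0 c * (tS hF 0 β * wS hF) * (tS hF 0 c)⁻¹)
      (by rw [tr_conj, hβt]))
    have h3 : tr (tS hF 0 β * wS hF * (tS hF 0 c * (tS hF 0 β * wS hF) * (tS hF 0 c)⁻¹)) = tr g := by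
      have e1 : tS hF 0 β * wS hF * (tS hF 0 c * (tS hF 0 β * wS hF) * (tS hF 0 c)⁻¹) =
          (tS hF 0 β * wS hF * tS hF 0 c) * (tS hF 0 β * wS hF * tS hF 0 c) := by
        rw [hzinv]; group
      rw [e1, tr_sq, tr_mul_comm, ← mul_assoc, tS_mul, tr_tS_wS, ← he]
      simp only [add_zero, zero_mul, map_zero, mul_zero, zero_add, map_add, hc, hβ]
      ring
    obtain ⟨k, hk⟩ := conj_of_tr hm hF (by rw [h3]; exact hg) h3
    exact h1.of_conj_eq k hk

include hm hF in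
theorem PT_four {x g : Cfsg.Sz F m} (hx2 : x * x ≠ 1) (hx4 : x * x * (x * x) = 1)
    (hg1 : g ≠ 1) : PT x g := by
  have h2 : (2 : F) = 0 := CharTwo.two_eq_zero
  obtain ⟨k₀, β₀, hk₀⟩ := four_form hm hF hx2 hx4
  have key : ∀ e, chi2 (m := m) hF e = chi2 (m := m) hF β₀ → ∃ u, u * x * u⁻¹ = tS hF 1 e := by
    intro e he
    obtain ⟨k, hk⟩ := conj_of_chi2 hF he.symm
    refine ⟨k * k₀⁻¹, ?_⟩
    rw [← hk, ← hk₀]; group
  have key2 : ∀ c e, c ≠ 0 → chi2 (m := m) hF e = chi2 (m := m) hF β₀ →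
      ∃ u, u * x * u⁻¹ = tS hF c (c * ϑ c * e) := by
    intro c e hc he
    obtain ⟨u, hu⟩ := key e he
    obtain ⟨k, hk⟩ := scale_one hF hc e
    refine ⟨k⁻¹ * u, ?_⟩
    calc k⁻¹ * u * x * (k⁻¹ * u)⁻¹ = k⁻¹ * (u * x * u⁻¹) * k := by group
      _ = _ := by rw [hu, ← hk]; group
  by_cases hg : tr g = 0
  · by_cases hgg : g * g = 1
    · have h1 : PT x (x * x) := PT.mk' ⟨1, by group⟩ ⟨1, by group⟩
      obtain ⟨k, hk⟩ := invol_conj hm hF (one_ne_zero (α := F)) hx2 hx4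
      obtain ⟨l, hl⟩ := invol_conj hm hF (one_ne_zero (α := F)) hg1 hgg
      apply h1.of_conj_eq (l⁻¹ * k)
      rw [← hk, ← hl]
      group
    · have hg4 : g * g * (g * g) = 1 := by
        obtain ⟨K, hK, hgK, -⟩ := exists_comp hm hF hg1
        rcases hK with ⟨k, rfl⟩ | hK
        · exact pow_four_of_mem_cj hF hgK
        · exact absurd hg (tr_ne_zero hm hF hK hgK hg1)
      obtain ⟨k₁, β₁, hk₁⟩ := four_form hm hF hgg hg4
      obtain ⟨ν, hν⟩ := exists_unit_ne_one hm hF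
      set γ : F := (ν : F) with hγ
      have hγ0 : γ ≠ 0 := ν.ne_zero
      have hγ1 : γ ≠ 1 := fun h => hν (Units.ext h)
      have h1γ : 1 + γ ≠ 0 := by
        intro h
        apply hγ1
        linear_combination h - h2
      have h1θ : 1 + ϑ γ ≠ 0 := by
        have : 1 + ϑ γ = ϑ (1 + γ) := by rw [map_add, map_one]
        rw [this]; exact (map_ne_zero _).2 h1γ
      have hN : (1 + γ) * (1 + ϑ γ) ≠ 0 := mul_ne_zero h1γ h1θ
      have hl0 : 1 + γ * ϑ γ ≠ 0 := by
        intro h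
        apply hγ1
        apply theta_mul_self_injective (m := m) hF
        rw [map_one]
        linear_combination h - h2
      have hγθ : γ + ϑ γ ≠ 0 := by
        intro h
        have h3 : ϑ γ = γ := by linear_combination h - γ * h2
        have h4 := th_th hF γ
        rw [h3, h3] at h4
        have h5 : γ * (γ - 1) = 0 := by linear_combination -h4
        rcases mul_eq_zero.1 h5 with h6 | h6
        · exact hγ0 h6
        · exact hγ1 (sub_eq_zero.1 h6)
      obtain ⟨β, hβ0, hβ1⟩ := exists_chi2 (m := m) hF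
        (l := (1 + γ * ϑ γ) / ((1 + γ) * (1 + ϑ γ))) (div_ne_zero hl0 hN) (by
          intro h
          rw [div_eq_one_iff_eq hN] at h
          apply hγθ
          linear_combination -h) (chi2 (m := m) hF β₀)
          (chi2 (m := m) hF β₁ + chi2 (m := m) hF (γ / ((1 + γ) * (1 + ϑ γ))))
      have h3 := PT.mk' (key β hβ0) (key2 γ β hγ0 hβ0)
      set d := (1 + γ * ϑ γ) / ((1 + γ) * (1 + ϑ γ)) * β + γ / ((1 + γ) * (1 + ϑ γ)) with hd
      have hd1 : chi2 (m := m) hF d = chi2 (m := m) hF β₁ := by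
        rw [hd, map_add, hβ1, add_assoc, CharTwo.add_self_eq_zero, add_zero]
      have e1 : tS hF 1 β * tS hF γ (γ * ϑ γ * β) =
          tS hF (1 + γ) ((1 + γ) * ϑ (1 + γ) * d) := by
        rw [tS_mul]
        congr 1
        rw [map_one, map_add, map_one, hd]
        field_simp
      rw [e1] at h3
      obtain ⟨k, hk⟩ := scale_one hF h1γ d
      obtain ⟨l, hl⟩ := conj_of_chi2 hF hd1
      exact ((h3.of_conj_eq k hk).of_conj_eq l hl).of_conj_eq k₁ hk₁
  · obtain ⟨c, d, hc, hcd⟩ := exists_param hm hF hg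
    obtain ⟨d', hd'⟩ := (frobeniusEquiv F 2).surjective d
    rw [frobeniusEquiv_apply, frobenius_def] at hd'
    obtain ⟨e, he, hee⟩ : ∃ e, chi2 (m := m) hF e = chi2 (m := m) hF β₀ ∧
        (1 + e + ϑ e) ^ 2 = 1 + d + ϑ d := by
      by_cases h : chi2 (m := m) hF d' = chi2 (m := m) hF β₀
      · refine ⟨d', h, ?_⟩
        rw [← hd', map_pow]
        linear_combination (d' + ϑ d' + d' * ϑ d') * h2
      · refine ⟨d' + 1, ?_, ?_⟩
        · rw [map_add, chi2_one]
          rcases chi2_cases (chi2 (m := m) hF d') with h3 | h3 <;>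
            rcases chi2_cases (chi2 (m := m) hF β₀) with h4 | h4
          · exact absurd (h3.trans h4.symm) h
          · rw [h3, h4]; rfl
          · rw [h3, h4]; rfl
          · exact absurd (h3.trans h4.symm) h
        · rw [← hd', map_pow, map_add, map_one]
          linear_combination (4 + 3 * d' + 3 * ϑ d' + d' * ϑ d') * h2
    have hy₂ : ∃ u, u * x * u⁻¹ = wS hF * tS hF c (c * ϑ c * e) * wS hF := by
      obtain ⟨u, hu⟩ := key2 c e hc he
      refine ⟨wS hF * u, ?_⟩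
      have hwinv : (wS hF)⁻¹ = wS hF := inv_eq_of_mul_eq_one_left (wS_mul_wS hF)
      calc wS hF * u * x * (wS hF * u)⁻¹ = wS hF * (u * x * u⁻¹) * (wS hF)⁻¹ := by group
        _ = _ := by rw [hu, hwinv]
    have h3 := PT.mk' (key e he) hy₂
    have h4 : tr (tS hF 1 e * (wS hF * tS hF c (c * ϑ c * e) * wS hF)) = tr g := by
      rw [tr_pair, ← hcd, ← hee, map_one, map_mul, map_mul, th_th hF]
      linear_combination (e * c * ϑ c) * h2
    obtain ⟨k, hk⟩ := conj_of_tr hm hF (by rw [h4]; exact hg) h4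
    exact h3.of_conj_eq k hk

/-- Every nonidentity element is a product of two conjugates of an element of order > 2. -/
theorem product_of_conjugates {F : Type*} [Field F] [Fintype F] {m : ℕ} (hm : 1 ≤ m)
    (hF : Fintype.card F = 2 ^ (2 * m + 1)) {x : Cfsg.Sz F m} (hx : 2 < orderOf x)
    {g : Cfsg.Sz F m} (hg : g ≠ 1) : PT x g := by
  have := charP_two hF
  have hx1 : x ≠ 1 := by
    rintro rfl
    rw [orderOf_one] at hx
    omega
  obtain ⟨K, hK, hxK, -⟩ := exists_comp hm hF hx1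
  rcases hK with ⟨k, rfl⟩ | hK
  · apply PT_four hm hF _ (pow_four_of_mem_cj hF hxK) hg
    intro h
    rw [← pow_two] at h
    have := orderOf_le_of_pow_eq_one (by norm_num) h
    omega
  · exact PT_odd hm hF (tr_ne_zero hm hF hK hxK hx1) hg

end

end Cfsg.Agent.Suz
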